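import Mathlib.RingTheory.Jacobson.Ring
import Mathlib.RingTheory.Algebraic.Basic
import Mathlib.RingTheory.MvPolynomial.Basic
import Mathlib.LinearAlgebra.Dimension.StrongRankCondition
import Mathlib.LinearAlgebra.Dimension.Basic
import Mathlib.SetTheory.Cardinal.Finsupp
import Mathlib.RingTheory.Localization.Away.Basic
import Mathlib.RingTheory.Adjoin.Basic

/-!
# Algebras generated by fewer elements than the cardinality of the base field are Jacobson
-/

set_option autoImplicit false
universe u

namespace Groth.Agent.Lib.Helper24.SmallGen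

open Cardinal Polynomial

section R2

variable {k F : Type u} [Field k] [Field F] [Algebra k F]

theorem linearIndependent_inv_sub {x : F} (hx : Transcendental k x) :
    LinearIndependent k (fun a : k => (x - algebraMap k F a)⁻¹) := by
  classical
  rw [linearIndependent_iff']
  intro t g hg a₀ ha₀
  have hne : ∀ a : k, x - algebraMap k F a ≠ 0 := by
    intro a h0
    apply hx
    rw [sub_eq_zero] at h0
    rw [h0]
    exact isAlgebraic_algebraMap a
  let p : k[X] := ∑ a ∈ t, C (g a) * ∏ b ∈ t.erase a, (X - C b)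
  have hp : aeval x p = 0 := by
    have h1 : aeval x p =
        (∏ b ∈ t, (x - algebraMap k F b)) * ∑ a ∈ t, g a • (x - algebraMap k F a)⁻¹ := by
      rw [Finset.mul_sum]
      simp only [p, map_sum, map_mul, aeval_C, map_prod, map_sub, aeval_X]
      apply Finset.sum_congr rfl
      intro a ha
      rw [← Finset.mul_prod_erase t _ ha, Algebra.smul_def]
      have := hne a
      field_simp
    rw [h1, hg, mul_zero]
  have hp0 : p = 0 := by
    by_contra hne0
    exact hx ⟨p, hne0, hp⟩
  have h2 : eval a₀ p = g a₀ * ∏ b ∈ t.erase a₀, (a₀ - b) := by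
    simp only [p, eval_finset_sum, eval_mul, eval_C, eval_prod, eval_sub, eval_X]
    rw [Finset.sum_eq_single a₀]
    · intro a ha hne'
      have : a₀ ∈ t.erase a := Finset.mem_erase.mpr ⟨Ne.symm hne', ha₀⟩
      rw [Finset.prod_eq_zero this (sub_self _), mul_zero]
    · intro h; exact absurd ha₀ h
  rw [hp0, eval_zero] at h2
  have h3 : ∏ b ∈ t.erase a₀, (a₀ - b) ≠ 0 := by
    rw [Finset.prod_ne_zero_iff]
    intro b hb
    rw [Finset.mem_erase] at hb
    exact sub_ne_zero.mpr (Ne.symm hb.1)
  exact (mul_eq_zero.mp h2.symm).resolve_right h3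

theorem isAlgebraic_of_rank_lt (h : Module.rank k F < #k) : Algebra.IsAlgebraic k F := by
  constructor
  intro x
  by_contra hx
  have := (linearIndependent_inv_sub (k := k) (show Transcendental k x from hx)).cardinal_le_rank
  exact absurd (lt_of_le_of_lt this h) (lt_irrefl _)

end R2

theorem rank_le_of_adjoin {k B : Type u} [Field k] [CommRing B] [Algebra k B] (t : Set B)
    (ht : Algebra.adjoin k t = ⊤) : Module.rank k B ≤ max #t ℵ₀ := by
  have hsurj : Function.Surjective (MvPolynomial.aeval (R := k) (fun x : t => (x : B))) := by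
    rw [← AlgHom.range_eq_top, ← Algebra.adjoin_range_eq_range_aeval, Subtype.range_coe, ht]
  have h1 := LinearMap.rank_le_of_surjective
    (MvPolynomial.aeval (R := k) (fun x : t => (x : B))).toLinearMap hsurj
  have h2 : Module.rank k (MvPolynomial t k) = #(t →₀ ℕ) :=
    ((MvPolynomial.basisMonomials t k).mk_eq_rank'').symm
  rw [h2] at h1
  rcases isEmpty_or_nonempty t with he | hne
  · have : #(t →₀ ℕ) ≤ 1 := Cardinal.le_one_iff_subsingleton.mpr inferInstance
    exact h1.trans (this.trans (one_le_aleph0.trans (le_max_right _ _)))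
  · rw [Cardinal.mk_finsupp_nat] at h1
    exact h1

/-- kernel of an algebra map to an algebraic field extension is maximal -/
theorem ker_isMaximal {k S F : Type u} [Field k] [CommRing S] [Algebra k S] [Field F] [Algebra k F]
    [Algebra.IsAlgebraic k F] (ψ : S →ₐ[k] F) : (RingHom.ker (ψ : S →+* F)).IsMaximal := by
  rw [Ideal.isMaximal_iff]
  constructor
  · rw [RingHom.mem_ker]
    simp
  · intro J y hJ hy hyJ
    rw [RingHom.mem_ker] at hy
    have hy' : ψ y ≠ 0 := hy
    have h1 : ((⟨ψ y, ⟨y, rfl⟩⟩ : ψ.range) : F)⁻¹ ∈ ψ.range :=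
      ψ.range.inv_mem_of_algebraic (x := ⟨ψ y, ⟨y, rfl⟩⟩) (Algebra.IsAlgebraic.isAlgebraic _)
    obtain ⟨z, hz⟩ := h1
    have h2 : y * z - 1 ∈ RingHom.ker (ψ : S →+* F) := by
      rw [RingHom.mem_ker, map_sub, map_mul, map_one]
      show ψ y * ψ z - 1 = 0
      have hz' : ψ z = (ψ y)⁻¹ := hz
      rw [hz', mul_inv_cancel₀ hy', sub_self]
    have h3 : y * z - (y * z - 1) ∈ J := J.sub_mem (J.mul_mem_right z hyJ) (hJ h2)
    simpa using h3

theorem main_infinite {k S : Type u} [Field k] [CommRing S] [Algebra k S]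
    (s : Set S) (hs : Algebra.adjoin k s = ⊤) (hcard : #s < #k) (hinf : s.Infinite) :
    (∀ (m : Ideal S) [m.IsMaximal], Algebra.IsAlgebraic k (S ⧸ m)) ∧ IsJacobsonRing S := by
  have haleph : ℵ₀ ≤ #s := by
    haveI := hinf.to_subtype
    exact Cardinal.aleph0_le_mk s
  have hmax : max #s ℵ₀ = #s := max_eq_left haleph
  have hrankS : Module.rank k S ≤ #s := by
    have := rank_le_of_adjoin s hs
    rwa [hmax] at this
  constructor
  · intro m hm
    letI := Ideal.Quotient.field m
    apply isAlgebraic_of_rank_lt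
    have h1 := LinearMap.rank_le_of_surjective (Ideal.Quotient.mkₐ k m).toLinearMap
      (Ideal.Quotient.mkₐ_surjective k m)
    exact lt_of_le_of_lt (h1.trans hrankS) hcard
  · rw [isJacobsonRing_iff_prime_eq]
    intro P hP
    apply le_antisymm _ Ideal.le_jacobson
    intro f hf
    by_contra hfP
    have hf0 : Ideal.Quotient.mk P f ≠ 0 := by
      rwa [Ne, Ideal.Quotient.eq_zero_iff_mem]
    let L := Localization.Away (Ideal.Quotient.mk P f)
    have hLinj : Function.Injective (algebraMap (S ⧸ P) L) :=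
      IsLocalization.injective L (powers_le_nonZeroDivisors_of_noZeroDivisors hf0)
    haveI : Nontrivial L := hLinj.nontrivial
    obtain ⟨M, hM⟩ := Ideal.exists_maximal L
    letI := Ideal.Quotient.field M
    let ψ : S →ₐ[k] (L ⧸ M) := (Ideal.Quotient.mkₐ k M).comp
      ((IsScalarTower.toAlgHom k (S ⧸ P) L).comp (Ideal.Quotient.mkₐ k P))
    have hψ : ∀ y, ψ y = Ideal.Quotient.mk M (algebraMap (S ⧸ P) L (Ideal.Quotient.mk P y)) :=
      fun y => rfl
    have hunit : IsUnit (ψ f) := by
      rw [hψ]
      exact (IsLocalization.Away.algebraMap_isUnit (Ideal.Quotient.mk P f)).map _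
    have hψf0 : ψ f ≠ 0 := hunit.ne_zero
    -- generators of the residue field
    let t : Set (L ⧸ M) := ψ '' s ∪ {(ψ f)⁻¹}
    have ht : Algebra.adjoin k t = ⊤ := by
      rw [eq_top_iff]
      intro z _
      have hS : ∀ y : S, ψ y ∈ Algebra.adjoin k t := by
        intro y
        have h1 : (⊤ : Subalgebra k S) ≤ (Algebra.adjoin k t).comap ψ := by
          rw [← hs]
          apply Algebra.adjoin_le
          intro y hy
          exact Algebra.subset_adjoin (Or.inl ⟨y, hy, rfl⟩)
        exact h1 Algebra.mem_top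
      have hinv : (ψ f)⁻¹ ∈ Algebra.adjoin k t := Algebra.subset_adjoin (Or.inr rfl)
      obtain ⟨l, rfl⟩ := Ideal.Quotient.mk_surjective z
      obtain ⟨n, d, hd⟩ := IsLocalization.Away.surj (Ideal.Quotient.mk P f) l
      obtain ⟨y, rfl⟩ := Ideal.Quotient.mk_surjective d
      have h2 : Ideal.Quotient.mk M l * ψ f ^ n = ψ y := by
        rw [hψ, hψ, ← map_pow, ← map_mul, hd]
      have h3 : Ideal.Quotient.mk M l = ψ y * ((ψ f)⁻¹) ^ n := by
        rw [← h2, inv_pow, mul_assoc, mul_inv_cancel₀ (pow_ne_zero n hψf0), mul_one]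
      rw [h3]
      exact Subalgebra.mul_mem _ (hS y) (Subalgebra.pow_mem _ hinv n)
    have htcard : #t ≤ #s := by
      calc #t ≤ #(ψ '' s) + #({(ψ f)⁻¹} : Set (L ⧸ M)) := Cardinal.mk_union_le _ _
        _ ≤ #s + 1 := add_le_add Cardinal.mk_image_le (by simp)
        _ = #s := Cardinal.add_one_eq haleph
    have hrankF : Module.rank k (L ⧸ M) < #k := by
      have h1 := rank_le_of_adjoin t ht
      have h2 : max #t ℵ₀ ≤ #s := max_le htcard haleph
      exact lt_of_le_of_lt (h1.trans h2) hcard
    haveI : Algebra.IsAlgebraic k (L ⧸ M) := isAlgebraic_of_rank_lt hrankF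
    have hker := ker_isMaximal ψ
    have hPker : P ≤ RingHom.ker (ψ : S →+* (L ⧸ M)) := by
      intro y hy
      rw [RingHom.mem_ker]
      show ψ y = 0
      rw [hψ, Ideal.Quotient.eq_zero_iff_mem.mpr hy, map_zero, map_zero]
    have hfker : f ∈ RingHom.ker (ψ : S →+* (L ⧸ M)) := by
      rw [Ideal.jacobson, Ideal.mem_sInf] at hf
      exact hf ⟨hPker, hker⟩
    rw [RingHom.mem_ker] at hfker
    exact hψf0 hfker

theorem main {k S : Type u} [Field k] [CommRing S] [Algebra k S]
    (s : Set S) (hs : Algebra.adjoin k s = ⊤) (hcard : #s < #k) :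
    (∀ (m : Ideal S) [m.IsMaximal], Algebra.IsAlgebraic k (S ⧸ m)) ∧ IsJacobsonRing S := by
  by_cases hfin : s.Finite
  · haveI : Algebra.FiniteType k S := ⟨⟨hfin.toFinset, by rw [Set.Finite.coe_toFinset]; exact hs⟩⟩
    constructor
    · intro m hm
      letI := Ideal.Quotient.field m
      haveI : Module.Finite k (S ⧸ m) := finite_of_finite_type_of_isJacobsonRing k (S ⧸ m)
      exact Algebra.IsAlgebraic.of_finite k (S ⧸ m)
    · exact isJacobsonRing_of_finiteType (A := k) (B := S)
  · exact main_infinite s hs hcard hfin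

end Groth.Agent.Lib.Helper24.SmallGen
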